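import Groth.Agent.H56.ProjDual.PZero

/-!
helper56: `O(-n-1)` is a dualizing module on `P^n_R` for all coherent modules, given the statement
for twists (row S11326) when `n ≥ 1`; the case `n = 0` is done by hand.
-/

set_option autoImplicit false
universe u
open CategoryTheory CategoryTheory.Limits AlgebraicGeometry Opposite TopologicalSpace

namespace Groth.Agent.H56.ProjDual

variable (R : Type u) [CommRing R] [IsNoetherianRing R] (n : ℕ)

/-- the shape of row S11326 -/
def D1 : Prop :=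
  ∃ t : Coh.HH (CohB1.ProjSpace n R) (Twist.twistProjSpace n R (-((n : ℤ) + 1))) n ≃ₗ[R] R,
    ∀ (m : ℤ) (ψ : Coh.HH (CohB1.ProjSpace n R) (Twist.twistProjSpace n R (-(m + n + 1))) n →ₗ[R] R),
      ∃! φ : Twist.twistProjSpace n R (-(m + n + 1)) ⟶ Twist.twistProjSpace n R (-((n : ℤ) + 1)),
        ∀ x : Coh.HH (CohB1.ProjSpace n R) (Twist.twistProjSpace n R (-(m + n + 1))) n,
          ψ x = t (Sheaf.H.map ((SheafOfModules.toSheaf (CohB1.ProjSpace n R).ringCatSheaf).map φ) n x)

theorem exists_perfect (h : 1 ≤ n → D1 R n) :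
    ∃ t : Coh.HH (CohB1.ProjSpace n R) (Twist.twistProjSpace n R (-((n : ℤ) + 1))) n ≃ₗ[R] R,
      ∀ F : (CohB1.ProjSpace n R).Modules, Coh.IsCoh F → Perfect R t.toLinearMap F := by
  rcases Nat.eq_zero_or_pos n with rfl | hn
  · exact exists_perfect_zero R _
  · obtain ⟨t, ht⟩ := h hn
    refine ⟨t, fun F hF => perfect_of_twists n R _ (fun m => ?_) F hF⟩
    have h1 : -((-m - n - 1) + (n : ℤ) + 1) = m := by ring
    have h2 := ht (-m - n - 1)
    rw [h1] at h2
    exact h2

/-- the conclusion of row S11314 (over any Noetherian ring) -/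
theorem exists_dualizing (h : 1 ≤ n → D1 R n) :
    ∃ t : Coh.HH (CohB1.ProjSpace n R) (Twist.twistProjSpace n R (-((n : ℤ) + 1))) n →ₗ[R] R,
      ∀ F : (CohB1.ProjSpace n R).Modules, Coh.IsCoh F →
        ∀ ψ : Coh.HH (CohB1.ProjSpace n R) F n →ₗ[R] R,
          ∃! φ : F ⟶ (Twist.twistProjSpace n R (-((n : ℤ) + 1))),
            ∀ x : Coh.HH (CohB1.ProjSpace n R) F n,
              ψ x = t (Sheaf.H.map
                ((SheafOfModules.toSheaf (CohB1.ProjSpace n R).ringCatSheaf).map φ) n x) := by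
  obtain ⟨t, ht⟩ := exists_perfect R n h
  exact ⟨t.toLinearMap, fun F hF => ht F hF⟩

end Groth.Agent.H56.ProjDual
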