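import Groth.Agent.H56.ProjDual.FreeGen

/-!
helper56: the dualizing pairing in cohomological degree `0`: if all global functions of `X` come
from the base ring `R` and `ω` is freely generated by a global section, then `H^0(ω) ≃ R` and
the pairing is perfect on every module freely generated by a global section.
-/

set_option autoImplicit false
universe u
open CategoryTheory CategoryTheory.Limits AlgebraicGeometry Opposite TopologicalSpace

namespace Groth.Agent.H56.ProjDual

open Groth.Agent.Lead.FiniteLES Groth.Agent.H18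

variable {X : Scheme.{u}}

/-- naturality of `H^0 = Γ` -/
theorem equiv_HHmap {M N : X.Modules} (φ : M ⟶ N) (x : Coh.HH X M 0) :
    HH0.equiv N (HHmap φ 0 x) = φ.val.app (op ⊤) (HH0.equiv M x) := by
  have := Sheaf.H.equiv₀_naturality (isTerminalTop : IsTerminal (⊤ : X.Opens))
    ((SheafOfModules.toSheaf X.ringCatSheaf).map φ) x
  exact this.symm

section Perfect

variable (R : Type u) [CommRing R] [X.Over (Spec (CommRingCat.of R))]
variable {ω : X.Modules} {r : ℕ} (t : Coh.HH X ω r →ₗ[R] R)

/-- perfectness is invariant under isomorphisms -/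
theorem perfect_of_iso {M M' : X.Modules} (e : M ≅ M') (h : Perfect R t M') : Perfect R t M := by
  rw [perfect_iff] at h ⊢
  constructor
  · intro φ φ' hφ
    have : alpha R t (e.inv ≫ φ) = alpha R t (e.inv ≫ φ') := by rw [alpha_comp, alpha_comp, hφ]
    exact (cancel_epi e.inv).mp (h.1 this)
  · intro ψ
    obtain ⟨φ', hφ'⟩ := h.2 (ψ.comp (toA R (HHmap e.inv r)))
    refine ⟨e.hom ≫ φ', ?_⟩
    rw [alpha_comp, hφ']
    ext x
    change ψ (HHmap e.inv r (HHmap e.hom r x)) = ψ x
    rw [← LinearMap.comp_apply, ← HHmap_comp, e.hom_inv_id, HHmap_id]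
    rfl

end Perfect

section Zero

variable (R : Type u) [CommRing R] [X.Over (Spec (CommRingCat.of R))]
variable (hg : Function.Bijective (Coh.toGlobal (X ↘ Spec (CommRingCat.of R))))
variable {ω : X.Modules} (τ : ω.val.obj (op (⊤ : X.Opens)))
variable (hτ : Function.Bijective (fun f : Coh.Γtop X => f • τ))

/-- the map `R → H^0(ω)`, `c ↦ c τ` -/
noncomputable def sLin : R →ₗ[R] Coh.HH X ω 0 where
  toFun c := (HH0.equiv ω).symm (Coh.toGlobal (X ↘ Spec (CommRingCat.of R)) c • τ)
  map_add' c c' := by
    rw [map_add, add_smul]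
    exact map_add (HH0.equiv ω).symm _ _
  map_smul' c c' := by
    apply (HH0.equiv ω).injective
    rw [RingHom.id_apply, HH0.smul_def', HH0.equiv_smul, AddEquiv.apply_symm_apply,
      AddEquiv.apply_symm_apply, smul_eq_mul, map_mul, mul_smul]

theorem equiv_sLin (c : R) :
    HH0.equiv ω (sLin R τ c) = Coh.toGlobal (X ↘ Spec (CommRingCat.of R)) c • τ :=
  AddEquiv.apply_symm_apply _ _

include hg hτ in
theorem sLin_bijective : Function.Bijective (sLin R τ) := by
  have : (sLin R τ : R → Coh.HH X ω 0) = (HH0.equiv ω).symm ∘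
      (fun f : Coh.Γtop X => f • τ) ∘ (Coh.toGlobal (X ↘ Spec (CommRingCat.of R))) := rfl
  rw [this]
  exact (HH0.equiv ω).symm.bijective.comp (hτ.comp hg)

/-- `H^0(ω) ≃ R` -/
noncomputable def tZero : Coh.HH X ω 0 ≃ₗ[R] R :=
  (LinearEquiv.ofBijective (sLin R τ) (sLin_bijective R hg τ hτ)).symm

theorem sLin_tZero (x : Coh.HH X ω 0) : sLin R τ (tZero R hg τ hτ x) = x :=
  (LinearEquiv.ofBijective (sLin R τ) (sLin_bijective R hg τ hτ)).apply_symm_apply x

theorem tZero_sLin (c : R) : tZero R hg τ hτ (sLin R τ c) = c :=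
  (LinearEquiv.ofBijective (sLin R τ) (sLin_bijective R hg τ hτ)).symm_apply_apply c

/-- the pairing is perfect on the structure module -/
theorem perfect_structureModule :
    Perfect R (tZero R hg τ hτ).toLinearMap (Coh.structureModule X) := by
  intro ψ
  -- the class of `1`
  let one : (Coh.structureModule X).val.obj (op (⊤ : X.Opens)) := (1 : Coh.Γtop X)
  let x₁ : Coh.HH X (Coh.structureModule X) 0 := (HH0.equiv (Coh.structureModule X)).symm one
  have hx₁ : HH0.equiv (Coh.structureModule X) x₁ = one := AddEquiv.apply_symm_apply _ _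
  have hspan : ∀ x : Coh.HH X (Coh.structureModule X) 0, ∃ c : R, x = c • x₁ := by
    intro x
    let y : Coh.Γtop X := HH0.equiv (Coh.structureModule X) x
    obtain ⟨c, hc⟩ := hg.2 y
    refine ⟨c, (HH0.equiv (Coh.structureModule X)).injective ?_⟩
    rw [HH0.smul_def', HH0.equiv_smul, hx₁, hc]
    exact (mul_one y).symm
  have key : ∀ (φ : Coh.structureModule X ⟶ ω) (b : R),
      φ.val.app (op ⊤) one = Coh.toGlobal (X ↘ Spec (CommRingCat.of R)) b • τ →
      tZero R hg τ hτ (HHmap φ 0 x₁) = b := by
    intro φ b hφ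
    have : HHmap φ 0 x₁ = sLin R τ b := by
      apply (HH0.equiv ω).injective
      rw [equiv_HHmap, hx₁, equiv_sLin]
      exact hφ
    rw [this, tZero_sLin]
  let b := ψ x₁
  let s : Γ(ω, (⊤ : X.Opens)) := Coh.toGlobal (X ↘ Spec (CommRingCat.of R)) b • τ
  have hs : (homOfSection ω s).val.app (op ⊤) one =
      Coh.toGlobal (X ↘ Spec (CommRingCat.of R)) b • τ := by
    refine (homOfSection_app_one ω s ⊤).trans ?_
    exact mres_self ω _ _
  refine ⟨homOfSection ω s, ?_, ?_⟩
  · intro x
    obtain ⟨c, rfl⟩ := hspan x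
    have h1 := key (homOfSection ω s) b hs
    change ψ (c • x₁) = tZero R hg τ hτ (toA R (HHmap _ 0) (c • x₁))
    rw [map_smul, map_smul, map_smul, toA_apply, h1]
  · intro φ' hφ'
    apply unit_hom_ext
    refine Eq.trans ?_ hs.symm
    have h2 : tZero R hg τ hτ (HHmap φ' 0 x₁) = b := (hφ' x₁).symm
    have h3 : HHmap φ' 0 x₁ = sLin R τ b := by
      rw [← h2, sLin_tZero]
    have h4 := congrArg (HH0.equiv ω) h3
    rw [equiv_HHmap, hx₁, equiv_sLin] at h4
    exact h4

/-- the pairing is perfect on every module freely generated by a global section -/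
theorem perfect_of_isFreeGen (M : X.Modules) (σ : Γ(M, (⊤ : X.Opens))) (hσ : IsFreeGen M σ) :
    Perfect R (tZero R hg τ hτ).toLinearMap M := by
  have := isIso_homOfSection M σ hσ
  exact perfect_of_iso R _ (asIso (homOfSection M σ)).symm (perfect_structureModule R hg τ hτ)

end Zero

end Groth.Agent.H56.ProjDual
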