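import Groth.Agent.H56.ProjDual.Step
import Groth.Agent.H18.QCohLocalize
import Groth.Agent.H18.HH0Sections
import Groth.Agent.H12.QCohExt

/-!
helper56: modules freely generated by one global section; the dualizing pairing in degree `0` on a
scheme all of whose global functions come from the base ring.
-/

set_option autoImplicit false
universe u
open CategoryTheory CategoryTheory.Limits AlgebraicGeometry Opposite TopologicalSpace

namespace Groth.Agent.H56.ProjDual

open Groth.Agent.Lead.FiniteLES Groth.Agent.H18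

variable {X : Scheme.{u}}

/-- `σ` generates `M` freely over every open -/
def IsFreeGen (M : X.Modules) (σ : Γ(M, (⊤ : X.Opens))) : Prop :=
  ∀ V : X.Opens, Function.Bijective (fun r : Γ(X, V) => r • mres M (le_top : V ≤ ⊤) σ)

/-- the morphism `O_X ⟶ M` attached to a global section -/
noncomputable def homOfSection (M : X.Modules) (σ : Γ(M, (⊤ : X.Opens))) :
    Coh.structureModule X ⟶ M :=
  (SheafOfModules.unitHomEquiv (R := X.ringCatSheaf) M).symm
    (PresheafOfModules.sectionsMk
      (fun V => (mres M (le_top : V.unop ≤ ⊤) σ : Γ(M, V.unop))) (by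
        intro V V' g
        have h1 : ∀ y : Γ(M, V.unop), M.val.map g y = mres M (leOfHom g.unop) y := fun _ => rfl
        rw [h1]
        exact mres_mres M _ _ σ))

theorem homOfSection_app_one (M : X.Modules) (σ : Γ(M, (⊤ : X.Opens))) (V : X.Opens) :
    (homOfSection M σ).val.app (op V) (1 : Γ(X, V)) = mres M (le_top : V ≤ ⊤) σ := by
  have := SheafOfModules.unitHomEquiv_apply_coe (R := X.ringCatSheaf) M (homOfSection M σ) (op V)
  unfold homOfSection at this
  rw [Equiv.apply_symm_apply] at this
  exact this.symm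

theorem homOfSection_app (M : X.Modules) (σ : Γ(M, (⊤ : X.Opens))) (V : X.Opens) (r : Γ(X, V)) :
    (homOfSection M σ).app V r = r • mres M (le_top : V ≤ ⊤) σ := by
  have h1 : (homOfSection M σ).app V (r • (1 : Γ(X, V))) =
      r • (homOfSection M σ).app V (1 : Γ(X, V)) :=
    Scheme.Modules.Hom.app_smul (homOfSection M σ) r (1 : Γ(X, V))
  have h2 : r • (1 : Γ(X, V)) = r := mul_one r
  have h3 : (homOfSection M σ).app V (1 : Γ(X, V)) = mres M (le_top : V ≤ ⊤) σ :=
    homOfSection_app_one M σ V
  have h4 : (homOfSection M σ).app V (r • (1 : Γ(X, V))) = (homOfSection M σ).app V r :=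
    congrArg ((homOfSection M σ).app V) h2
  rw [← h4, h1, h3]

theorem isIso_homOfSection (M : X.Modules) (σ : Γ(M, (⊤ : X.Opens))) (h : IsFreeGen M σ) :
    IsIso (homOfSection M σ) := by
  rw [Scheme.Modules.Hom.isIso_iff_isIso_app]
  intro V
  rw [ConcreteCategory.isIso_iff_bijective]
  have : ((homOfSection M σ).app V : Γ(X, V) → Γ(M, V)) =
      (fun r : Γ(X, V) => r • mres M (le_top : V ≤ ⊤) σ) := by
    funext r
    exact homOfSection_app M σ V r
  rw [this]
  exact h V

/-- morphisms out of the structure module are determined by the image of `1` -/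
theorem unit_hom_ext {M : X.Modules} (φ φ' : Coh.structureModule X ⟶ M)
    (h : φ.val.app (op ⊤) (1 : Γ(X, (⊤ : X.Opens))) = φ'.val.app (op ⊤) (1 : Γ(X, (⊤ : X.Opens)))) :
    φ = φ' := by
  apply (SheafOfModules.unitHomEquiv (R := X.ringCatSheaf) M).injective
  apply PresheafOfModules.sections_ext
  intro V
  rw [SheafOfModules.unitHomEquiv_apply_coe, SheafOfModules.unitHomEquiv_apply_coe]
  have hV : ∀ ψ : Coh.structureModule X ⟶ M,
      ψ.val.app V (1 : X.ringCatSheaf.obj.obj V) =
        mres M (le_top : V.unop ≤ ⊤) (ψ.val.app (op ⊤) (1 : Γ(X, (⊤ : X.Opens)))) := by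
    intro ψ
    have h1 := Groth.Agent.H12.QCohExt.app_mres ψ (le_top : V.unop ≤ ⊤) (1 : Γ(X, (⊤ : X.Opens)))
    refine Eq.trans ?_ h1.symm
    change ψ.val.app V (1 : X.ringCatSheaf.obj.obj V) =
      ψ.val.app V ((X.presheaf.map (homOfLE (le_top : V.unop ≤ ⊤)).op).hom 1)
    rw [map_one]
    rfl
  rw [hV φ, hV φ', h]

end Groth.Agent.H56.ProjDual
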