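import Groth.Agent.H56.ProjDual.Step
import Groth.Agent.H95.SerreFin

/-!
helper56: on `P^n_R` (`R` Noetherian), the natural map `Hom(F, ω) → H^n(F)^∨` is bijective for every
coherent `F` as soon as it is bijective for all twists `O(m)`.
-/

set_option autoImplicit false
universe u
open CategoryTheory CategoryTheory.Limits AlgebraicGeometry Opposite TopologicalSpace MvPolynomial

namespace Groth.Agent.H56.ProjDual

open Groth.Agent.Lead.FiniteLES Groth.Agent.Lead.SigmaSplit Groth.Agent.H95.SerreFin

variable (n : ℕ) (R : Type u) [CommRing R]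

/-- every coherent module on `P^n_R` is a quotient of a finite copower of a twist -/
theorem exists_epi_pow (M : (CohB1.ProjSpace n R).Modules) (hM : Coh.IsCoh M) :
    ∃ (q : ℤ) (k : ℕ) (p : pow (Twist.twistProjSpace n R q) k ⟶ M), Epi p := by
  classical
  have hs1 : ∀ f ∈ (Finset.univ.image (X : Fin (n + 1) → MvPolynomial (Fin (n + 1)) R)),
      f ∈ CohB1.polyGrading n R 1 := by
    intro f hf
    obtain ⟨a, -, rfl⟩ := Finset.mem_image.mp hf
    exact (mem_homogeneousSubmodule _ _).mpr (isHomogeneous_X R a)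
  have hs : (HomogeneousIdeal.irrelevant (CohB1.polyGrading n R)).toIdeal =
      Ideal.span ((Finset.univ.image (X : Fin (n + 1) → MvPolynomial (Fin (n + 1)) R) :
        Finset _) : Set (MvPolynomial (Fin (n + 1)) R)) := by
    rw [Finset.coe_image, Finset.coe_univ, Set.image_univ]
    refine le_antisymm (Groth.Agent.Lead.Coh.irrelevant_le_span_X n R) ?_
    rw [Ideal.span_le]
    rintro _ ⟨a, rfl⟩
    exact HomogeneousIdeal.mem_irrelevant_of_mem _ Nat.one_pos
      ((mem_homogeneousSubmodule _ _).mpr (isHomogeneous_X R a))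
  obtain ⟨n₀, hn₀⟩ := Groth.Agent.S4402.result (CohB1.polyGrading n R) _ hs1 hs M hM.1 hM.2
  obtain ⟨k, p₀, hp₀⟩ := hn₀ n₀ le_rfl
  exact ⟨-(n₀ : ℤ), k, p₀, hp₀⟩

variable [IsNoetherianRing R]

theorem alpha_bijective_of_twists {ω : (CohB1.ProjSpace n R).Modules}
    (t : Coh.HH (CohB1.ProjSpace n R) ω n →ₗ[R] R)
    (h : ∀ m : ℤ, Function.Bijective (alpha R t (F := Twist.twistProjSpace n R m)))
    (F : (CohB1.ProjSpace n R).Modules) (hF : Coh.IsCoh F) :
    Function.Bijective (alpha R t (F := F)) := by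
  have inj : ∀ G : (CohB1.ProjSpace n R).Modules, Coh.IsCoh G →
      Function.Injective (alpha R t (F := G)) := by
    intro G hG
    obtain ⟨q, k, p, hp⟩ := exists_epi_pow n R G hG
    exact alpha_injective_of_epi R t p (alpha_bijective_pow R t _ (h q) k).1
  refine ⟨inj F hF, ?_⟩
  obtain ⟨q, k, p, hp⟩ := exists_epi_pow n R F hF
  let E : ShortComplex (CohB1.ProjSpace n R).Modules :=
    ShortComplex.mk (kernel.ι p) p (kernel.condition p)
  have hE : E.ShortExact :=
    { exact := ShortComplex.exact_of_f_is_kernel _ (kernelIsKernel p)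
      mono_f := inferInstanceAs (Mono (kernel.ι p))
      epi_g := hp }
  have hpow : Coh.IsCoh (pow (Twist.twistProjSpace n R q) k) :=
    isCoh_pow _ (isCoh_twist n R _) k
  have hK : Coh.IsCoh (kernel p) := Groth.Agent.S0026.isCoh_kernel _ _ p hpow hF
  haveI : Coh.IsQCoh (kernel p) := hK.1
  exact alpha_surjective_of_shortExact R t E hE (inj _ hK) (alpha_bijective_pow R t _ (h q) k).2
    (Groth.Agent.S0022.result n R (kernel p) (n + 1) (Nat.lt_succ_self n))

theorem perfect_of_twists {ω : (CohB1.ProjSpace n R).Modules}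
    (t : Coh.HH (CohB1.ProjSpace n R) ω n →ₗ[R] R)
    (h : ∀ m : ℤ, Perfect R t (Twist.twistProjSpace n R m))
    (F : (CohB1.ProjSpace n R).Modules) (hF : Coh.IsCoh F) : Perfect R t F :=
  (perfect_iff R t F).mpr
    (alpha_bijective_of_twists n R t (fun m => (perfect_iff R t _).mp (h m)) F hF)

end Groth.Agent.H56.ProjDual
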