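import Groth.Agent.H56.ProjDual.DegZero
import Groth.Agent.H56.ProjDual.Main
import Groth.Agent.H18.TwistTriv
import Groth.Agent.H18.ProjSpaceGlobal

/-!
helper56: the dualizing pairing on `P^0_R`: every twist is freely generated by a power of `X_0`,
so `H^0(O(e)) ≃ R` and the pairing into it is perfect on every coherent module.
-/

set_option autoImplicit false
universe u
open CategoryTheory CategoryTheory.Limits AlgebraicGeometry Opposite TopologicalSpace MvPolynomial

namespace Groth.Agent.H56.ProjDual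

open Groth.Agent.H18 Groth.Agent.H18.PSL

variable (R : Type u) [CommRing R]

theorem X0_not_mem (x : ProjectiveSpectrum (CohB1.polyGrading 0 R)) :
    (X 0 : MvPolynomial (Fin 1) R) ∉ x.asHomogeneousIdeal := by
  obtain ⟨i, hi⟩ := exists_mem_stdO 0 R x
  have h := (mem_monoOpen 0 R _ x).mp hi
  have hi0 : i = 0 := Fin.ext (by have := i.2; simp only [Fin.val_zero]; omega)
  rw [hi0] at h
  exact h

theorem X0_pow_not_mem (x : ProjectiveSpectrum (CohB1.polyGrading 0 R)) (j : ℕ) :
    (X 0 : MvPolynomial (Fin 1) R) ^ j ∉ x.asHomogeneousIdeal := fun h =>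
  X0_not_mem R x (x.isPrime.mem_of_pow_mem j h)

theorem X0_pow_mem (j : ℕ) : (X 0 : MvPolynomial (Fin 1) R) ^ j ∈ CohB1.polyGrading 0 R j := by
  have h := (isHomogeneous_X R (0 : Fin 1)).pow j
  rw [one_mul] at h
  exact (mem_homogeneousSubmodule _ _).mpr h

/-- on `P^0_R` every twist is freely generated by a global section -/
theorem exists_isFreeGen_twist (e : ℤ) :
    ∃ σ : Γ(Twist.twistProjSpace 0 R e, (⊤ : (CohB1.ProjSpace 0 R).Opens)),
      IsFreeGen (Twist.twistProjSpace 0 R e) σ := by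
  have he : ((e.toNat : ℕ) : ℤ) = ((-e).toNat : ℕ) + e := by omega
  refine ⟨fracTw (CohB1.polyGrading 0 R) (X0_pow_mem R e.toNat) (X0_pow_mem R (-e).toNat) he ⊤
    (fun x _ => X0_pow_not_mem R x _), ?_⟩
  intro V
  exact ⟨smul_fracTw_injective (CohB1.polyGrading 0 R) (X0_pow_mem R e.toNat)
      (X0_pow_mem R (-e).toNat) he V (fun x _ => X0_pow_not_mem R x _)
      (fun x _ => X0_pow_not_mem R x _),
    smul_fracTw_surjective (CohB1.polyGrading 0 R) (X0_pow_mem R e.toNat)
      (X0_pow_mem R (-e).toNat) he V (fun x _ => X0_pow_not_mem R x _)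
      (fun x _ => X0_pow_not_mem R x _)⟩

/-- on `P^0_R` (`R` Noetherian) every twist `ω = O(e)` has `H^0(ω) ≃ R` and is dualizing -/
theorem exists_perfect_zero [IsNoetherianRing R] (e : ℤ) :
    ∃ t : Coh.HH (CohB1.ProjSpace 0 R) (Twist.twistProjSpace 0 R e) 0 ≃ₗ[R] R,
      ∀ F : (CohB1.ProjSpace 0 R).Modules, Coh.IsCoh F → Perfect R t.toLinearMap F := by
  obtain ⟨τ, hτ⟩ := exists_isFreeGen_twist R e
  have hg : Function.Bijective
      (Coh.toGlobal (CohB1.ProjSpace 0 R ↘ Spec (CommRingCat.of R))) := toGlobal_bijective 0 R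
  let τ' : (Twist.twistProjSpace 0 R e).val.obj (op (⊤ : (CohB1.ProjSpace 0 R).Opens)) := τ
  have hτ' : Function.Bijective (fun f : Coh.Γtop (CohB1.ProjSpace 0 R) => f • τ') := by
    have h := hτ ⊤
    have h2 : (fun r : Γ(CohB1.ProjSpace 0 R, (⊤ : (CohB1.ProjSpace 0 R).Opens)) =>
        r • mres (Twist.twistProjSpace 0 R e) (le_top : (⊤ : (CohB1.ProjSpace 0 R).Opens) ≤ ⊤) τ) =
        (fun r : Γ(CohB1.ProjSpace 0 R, (⊤ : (CohB1.ProjSpace 0 R).Opens)) => r • τ) := by
      funext r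
      rw [mres_self]
    rw [h2] at h
    exact h
  refine ⟨tZero R hg τ' hτ', fun F hF => perfect_of_twists 0 R _ (fun m => ?_) F hF⟩
  obtain ⟨σ, hσ⟩ := exists_isFreeGen_twist R m
  exact perfect_of_isFreeGen R hg τ' hτ' _ σ hσ

end Groth.Agent.H56.ProjDual
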