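import Mathlib
import Groth.Prelude.Def_Coh
import Groth.Agent.Lead.Coh.FiniteLES
import Groth.Agent.Lead.Coh.SigmaSplit

/-!
helper56: the "dualizing pairing" natural map `Hom(F, ω) → H^r(F)^∨`, `φ ↦ t ∘ H^r(φ)` and the formal
steps that propagate its bijectivity: finite copowers, quotients (injectivity), cokernels
(surjectivity, when `H^r` is right exact).
-/

set_option autoImplicit false
universe u
open CategoryTheory CategoryTheory.Limits AlgebraicGeometry Opposite TopologicalSpace

namespace Groth.Agent.H56.ProjDual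

open Groth.Agent.Lead.FiniteLES Groth.Agent.Lead.SigmaSplit Groth.Agent.H12.AffHomCrit

variable {X : Scheme.{u}}

theorem HHmap_add {M N : X.Modules} (φ ψ : M ⟶ N) (n : ℕ) :
    HHmap (φ + ψ) n = HHmap φ n + HHmap ψ n := by
  ext x
  have h : (SheafOfModules.toSheaf X.ringCatSheaf).map (φ + ψ) =
      (SheafOfModules.toSheaf X.ringCatSheaf).map φ +
        (SheafOfModules.toSheaf X.ringCatSheaf).map ψ := Functor.map_add _
  exact (congrArg (fun f => Sheaf.H.map f n x) h).trans (Sheaf.H.map_add_apply _ _ x)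

theorem HHmap_zero {M N : X.Modules} (n : ℕ) : HHmap (0 : M ⟶ N) n = 0 := by
  have h := HHmap_add (0 : M ⟶ N) 0 n
  rw [add_zero] at h
  exact left_eq_add.mp h

theorem HHmap_sum {M N : X.Modules} {ι : Type*} (s : Finset ι) (φ : ι → (M ⟶ N)) (n : ℕ) :
    HHmap (∑ i ∈ s, φ i) n = ∑ i ∈ s, HHmap (φ i) n := by
  classical
  induction s using Finset.induction_on with
  | empty => simp [HHmap_zero]
  | insert a s ha ih => rw [Finset.sum_insert ha, Finset.sum_insert ha, HHmap_add, ih]

section Alpha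

variable (A : Type u) [CommRing A] [X.Over (Spec (CommRingCat.of A))]
variable {ω : X.Modules} {r : ℕ} (t : Coh.HH X ω r →ₗ[A] A)

/-- the natural map `Hom(F, ω) → H^r(F)^∨`, `φ ↦ t ∘ H^r(φ)` -/
noncomputable def alpha {F : X.Modules} (φ : F ⟶ ω) : Coh.HH X F r →ₗ[A] A :=
  t.comp (toA A (HHmap φ r))

theorem alpha_apply {F : X.Modules} (φ : F ⟶ ω) (x : Coh.HH X F r) :
    alpha A t φ x =
      t (Sheaf.H.map ((SheafOfModules.toSheaf X.ringCatSheaf).map φ) r x) := rfl

theorem alpha_comp {F G : X.Modules} (g : G ⟶ F) (φ : F ⟶ ω) :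
    alpha A t (g ≫ φ) = (alpha A t φ).comp (toA A (HHmap g r)) := by
  ext x
  change t (HHmap (g ≫ φ) r x) = t (HHmap φ r (HHmap g r x))
  rw [HHmap_comp]
  rfl

theorem alpha_zero {F : X.Modules} : alpha A t (0 : F ⟶ ω) = 0 := by
  ext x
  change t (HHmap (0 : F ⟶ ω) r x) = 0
  rw [HHmap_zero]
  simp

/-- the statement "the pairing is perfect on `F`" in the shape used by the ProjDual rows -/
def Perfect (F : X.Modules) : Prop :=
  ∀ ψ : Coh.HH X F r →ₗ[A] A, ∃! φ : F ⟶ ω, ∀ x : Coh.HH X F r,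
    ψ x = t (Sheaf.H.map ((SheafOfModules.toSheaf X.ringCatSheaf).map φ) r x)

theorem perfect_iff (F : X.Modules) :
    Perfect A t F ↔ Function.Bijective (alpha A t (F := F)) := by
  constructor
  · intro h
    constructor
    · intro φ φ' hφ
      obtain ⟨φ₀, -, hu⟩ := h (alpha A t φ)
      rw [hu φ (fun x => rfl), hu φ' (fun x => by rw [hφ]; rfl)]
    · intro ψ
      obtain ⟨φ₀, h₀, -⟩ := h ψ
      exact ⟨φ₀, LinearMap.ext fun x => (h₀ x).symm⟩
  · intro h ψ
    obtain ⟨φ, hφ⟩ := h.2 ψ
    refine ⟨φ, fun x => by rw [← hφ]; rfl, fun φ' hφ' => h.1 ?_⟩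
    rw [hφ]
    exact LinearMap.ext fun x => (hφ' x).symm

/-- injectivity passes to quotients -/
theorem alpha_injective_of_epi {E F : X.Modules} (p : E ⟶ F) [Epi p]
    (hE : Function.Injective (alpha A t (F := E))) :
    Function.Injective (alpha A t (F := F)) := by
  intro φ φ' h
  have : alpha A t (p ≫ φ) = alpha A t (p ≫ φ') := by rw [alpha_comp, alpha_comp, h]
  exact (cancel_epi p).mp (hE this)

/-- surjectivity passes to cokernels when `H^{r+1}` of the kernel vanishes -/
theorem alpha_surjective_of_shortExact (S : ShortComplex X.Modules) (hS : S.ShortExact)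
    (h₁ : Function.Injective (alpha A t (F := S.X₁)))
    (h₂ : Function.Surjective (alpha A t (F := S.X₂)))
    (hv : Subsingleton (Coh.HH X S.X₁ (r + 1))) :
    Function.Surjective (alpha A t (F := S.X₃)) := by
  intro ψ
  obtain ⟨φ₀, hφ₀⟩ := h₂ (ψ.comp (toA A (HHmap S.g r)))
  have hzero : S.f ≫ φ₀ = 0 := by
    apply h₁
    rw [alpha_comp, hφ₀, alpha_zero, LinearMap.comp_assoc]
    ext x
    change ψ (HHmap S.g r (HHmap S.f r x)) = 0
    rw [← LinearMap.comp_apply, ← HHmap_comp, S.zero, HHmap_zero]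
    simp
  haveI := hS.epi_g
  let φ : S.X₃ ⟶ ω := hS.exact.desc φ₀ hzero
  have hφ : S.g ≫ φ = φ₀ := hS.exact.g_desc φ₀ hzero
  refine ⟨φ, ?_⟩
  have hsurj : Function.Surjective (HHmap S.g r) := by
    rw [← LinearMap.range_eq_top, ← ker_HHδ S hS r]
    rw [LinearMap.ker_eq_top]
    exact LinearMap.ext fun x => Subsingleton.elim _ _
  ext y
  obtain ⟨x, rfl⟩ := hsurj y
  have h1 := congrArg (fun f => f x) (alpha_comp A t S.g φ)
  rw [hφ, hφ₀] at h1
  exact h1.symm

/-- perfectness passes to finite copowers -/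
theorem alpha_bijective_pow (I : X.Modules) (h : Function.Bijective (alpha A t (F := I))) (k : ℕ) :
    Function.Bijective (alpha A t (F := pow I k)) := by
  constructor
  · intro φ φ' hφ
    apply Sigma.hom_ext
    intro j
    apply h.1
    rw [alpha_comp, alpha_comp, hφ]
  · intro ψ
    choose φj hφj using fun j : Fin k =>
      h.2 (ψ.comp (toA A (HHmap (Sigma.ι (fun _ : Fin k => I) j) r)))
    refine ⟨Sigma.desc φj, ?_⟩
    ext x
    have hx : x = ∑ j : Fin k, HHmap (Sigma.ι (fun _ : Fin k => I) j) r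
        (HHmap (sproj (fun _ : Fin k => I) j) r x) := by
      have h1 := congrArg (fun f => HHmap f r x) (sum_sproj_ι (fun _ : Fin k => I))
      simp only [HHmap_sum, HHmap_id, LinearMap.sum_apply, LinearMap.id_apply, HHmap_comp,
        LinearMap.comp_apply] at h1
      exact h1.symm
    rw [hx, map_sum, map_sum]
    refine Finset.sum_congr rfl fun j _ => ?_
    have h2 := congrArg (fun f => f (HHmap (sproj (fun _ : Fin k => I) j) r x))
      (alpha_comp A t (Sigma.ι (fun _ : Fin k => I) j) (Sigma.desc φj))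
    rw [Sigma.ι_desc, hφj] at h2
    exact h2.symm

end Alpha

end Groth.Agent.H56.ProjDual
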